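import Groth.Agent.EtStruct.Unibranch
import Mathlib.RingTheory.Ideal.GoingUp
import Mathlib.RingTheory.RingHom.PurelyInseparable
import Mathlib.FieldTheory.PurelyInseparable.Basic
import Mathlib.RingTheory.Localization.Integral
import Groth.Agent.RadPtLib.Basic

/-!
# Geometrically unibranch points along integral birational ring maps
-/

set_option autoImplicit false

universe u

namespace Groth.Agent.UnibrBir

open Groth.Agent.EtStruct IsLocalRing

/-- `CAlg2.IsGeomUnibranch` only depends on the reduction. -/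
theorem isGeomUnibranch_red_iff (L : Type u) [CommRing L] [IsLocalRing L]
    [IsLocalRing (CAlg2.red L)] [IsDomain (CAlg2.red L)] :
    CAlg2.IsGeomUnibranch L ↔ CAlg2.IsGeomUnibranch (CAlg2.red L) := by
  rw [isGeomUnibranch_iff (CAlg2.red L) (FractionRing (CAlg2.red L))]
  constructor
  · intro h
    refine ⟨h.1.2, fun m _ x => ?_⟩
    obtain ⟨n, a, ha⟩ := h.2 m (Ideal.Quotient.mk m x)
    exact ⟨n, Ideal.Quotient.mk _ a, ha⟩
  · rintro ⟨h1, h2⟩
    refine ⟨⟨‹_›, h1⟩, fun m _ x => ?_⟩
    obtain ⟨x, rfl⟩ := Ideal.Quotient.mk_surjective x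
    obtain ⟨n, a, ha⟩ := h2 m x
    obtain ⟨a, rfl⟩ := Ideal.Quotient.mk_surjective a
    exact ⟨n, a, ha⟩

/-- `PIResidue` into a local ring is pure inseparability of the residue field extension. -/
theorem piResidue_iff {L N : Type u} [CommRing L] [IsLocalRing L] [CommRing N] [IsLocalRing N]
    (f : L →+* N) [IsLocalHom f] :
    PIResidue f ↔ (ResidueField.map f).IsPurelyInseparable := by
  let g := ResidueField.map f
  let : Algebra (ResidueField L) (ResidueField N) := g.toAlgebra
  show _ ↔ IsPurelyInseparable (ResidueField L) (ResidueField N)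
  have : ExpChar (ResidueField N) (ringExpChar (ResidueField L)) :=
    expChar_of_injective_ringHom g.injective _
  rw [isPurelyInseparable_iff_pow_mem (ResidueField L) (ringExpChar (ResidueField L))]
  have hq : ringExpChar (N ⧸ maximalIdeal N) = ringExpChar (ResidueField L) :=
    ringExpChar.eq (ResidueField N) (ringExpChar (ResidueField L))
  constructor
  · intro h x
    obtain ⟨x, rfl⟩ := residue_surjective x
    obtain ⟨n, a, ha⟩ := h (maximalIdeal N) x
    refine ⟨n, residue L a, ?_⟩
    rw [hq] at ha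
    exact ha
  · intro h m hm x
    obtain rfl := eq_maximalIdeal hm
    obtain ⟨n, a, ha⟩ := h (residue N x)
    obtain ⟨a, rfl⟩ := residue_surjective a
    refine ⟨n, a, ?_⟩
    rw [hq]
    exact ha

/-- An integral algebra map into a local ring is local. -/
theorem isLocalHom_of_integral (L N : Type u) [CommRing L] [IsLocalRing L] [CommRing N]
    [IsLocalRing N] [Algebra L N] [Algebra.IsIntegral L N] : IsLocalHom (algebraMap L N) := by
  refine ((local_hom_TFAE (algebraMap L N)).out 0 4 rfl rfl).mpr ?_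
  exact eq_maximalIdeal (Ideal.isMaximal_comap_of_isIntegral_of_isMaximal (maximalIdeal N))

/-- Geometrically unibranch local rings, through the integral closure in the residue field of the
minimal prime. -/
theorem isGeomUnibranch_iff_of_field (L K : Type u) [CommRing L] [IsLocalRing L] [Field K]
    [Algebra L K] (hker : RingHom.ker (algebraMap L K) = nilradical L)
    (hfrac : ∀ x : K, ∃ a b : L, algebraMap L K b ≠ 0 ∧ x * algebraMap L K b = algebraMap L K a) :
    CAlg2.IsGeomUnibranch L ↔ IsLocalRing (integralClosure L K) ∧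
      PIResidue (algebraMap L (integralClosure L K)) := by
  let θ : CAlg2.red L →+* K :=
    Ideal.Quotient.lift (nilradical L) (algebraMap L K) fun a ha => by rwa [← hker] at ha
  have hinj : Function.Injective θ := by
    refine (injective_iff_map_eq_zero θ).2 fun a ha => ?_
    obtain ⟨a, rfl⟩ := Ideal.Quotient.mk_surjective a
    refine Ideal.Quotient.eq_zero_iff_mem.2 ?_
    rw [← hker]
    exact ha
  have : IsDomain (CAlg2.red L) := hinj.isDomain θ
  have : IsLocalRing (CAlg2.red L) :=
    .of_surjective' (Ideal.Quotient.mk _) Ideal.Quotient.mk_surjective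
  let : Algebra (CAlg2.red L) K := θ.toAlgebra
  have : IsScalarTower L (CAlg2.red L) K := .of_algebraMap_eq fun a => rfl
  have : FaithfulSMul (CAlg2.red L) K := (faithfulSMul_iff_algebraMap_injective _ _).2 hinj
  have : IsFractionRing (CAlg2.red L) K := by
    refine IsFractionRing.of_field _ _ fun x => ?_
    obtain ⟨a, b, hb, h⟩ := hfrac x
    refine ⟨Ideal.Quotient.mk _ a, Ideal.Quotient.mk _ b, ?_⟩
    exact (eq_div_iff hb).2 h
  rw [isGeomUnibranch_red_iff L, isGeomUnibranch_iff (CAlg2.red L) K]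
  have hint : ∀ x : K, IsIntegral (CAlg2.red L) x ↔ IsIntegral L x := fun x ↦
    ⟨fun h ↦ isIntegral_trans x h, fun h ↦ h.tower_top⟩
  let e : integralClosure (CAlg2.red L) K ≃+* integralClosure L K :=
    { toFun := fun x ↦ ⟨x.1, (hint _).mp x.2⟩
      invFun := fun x ↦ ⟨x.1, (hint _).mpr x.2⟩
      left_inv := fun _ ↦ rfl
      right_inv := fun _ ↦ rfl
      map_mul' := fun _ _ ↦ rfl
      map_add' := fun _ _ ↦ rfl }
  constructor
  · rintro ⟨h1, h2⟩
    refine ⟨RingEquiv.isLocalRing e, h2.map e fun a => ?_⟩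
    obtain ⟨a, rfl⟩ := Ideal.Quotient.mk_surjective a
    exact ⟨a, rfl⟩
  · rintro ⟨h1, h2⟩
    exact ⟨RingEquiv.isLocalRing e.symm, h2.map e.symm fun a => ⟨Ideal.Quotient.mk _ a, rfl⟩⟩

/-- Comparison of two local rings with the same reduced fraction field, one integral over the
other. -/
theorem isGeomUnibranch_iff_of_integral (L M K : Type u) [CommRing L] [IsLocalRing L] [CommRing M]
    [IsLocalRing M] [Field K] [Algebra L M] [Algebra L K] [Algebra M K] [IsScalarTower L M K]
    [IsLocalHom (algebraMap L M)]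
    (hkerL : RingHom.ker (algebraMap L K) = nilradical L)
    (hkerM : RingHom.ker (algebraMap M K) = nilradical M)
    (hfrac : ∀ x : K, ∃ a b : L, algebraMap L K b ≠ 0 ∧ x * algebraMap L K b = algebraMap L K a)
    (hint : ∀ m : M, IsIntegral L (algebraMap M K m)) :
    CAlg2.IsGeomUnibranch L ↔
      CAlg2.IsGeomUnibranch M ∧ (ResidueField.map (algebraMap L M)).IsPurelyInseparable := by
  have hfracM : ∀ x : K, ∃ a b : M,
      algebraMap M K b ≠ 0 ∧ x * algebraMap M K b = algebraMap M K a := fun x => by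
    obtain ⟨a, b, hb, h⟩ := hfrac x
    refine ⟨algebraMap L M a, algebraMap L M b, ?_⟩
    simp only [← IsScalarTower.algebraMap_apply]
    exact ⟨hb, h⟩
  rw [isGeomUnibranch_iff_of_field L K hkerL hfrac,
    isGeomUnibranch_iff_of_field M K hkerM hfracM]
  let j : M →+* integralClosure L K := (algebraMap M K).codRestrict _ hint
  let : Algebra M (integralClosure L K) := j.toAlgebra
  have : IsScalarTower M (integralClosure L K) K := .of_algebraMap_eq fun m => rfl
  have hiff : ∀ x : K, IsIntegral M x ↔ IsIntegral L x := fun x =>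
    ⟨fun h => isIntegral_trans x (h.tower_top (A := integralClosure L K)), fun h => h.tower_top⟩
  let e : integralClosure L K ≃+* integralClosure M K :=
    { toFun := fun x ↦ ⟨x.1, (hiff _).mpr x.2⟩
      invFun := fun x ↦ ⟨x.1, (hiff _).mp x.2⟩
      left_inv := fun _ ↦ rfl
      right_inv := fun _ ↦ rfl
      map_mul' := fun _ _ ↦ rfl
      map_add' := fun _ _ ↦ rfl }
  have main : IsLocalRing (integralClosure M K) →
      (PIResidue (algebraMap L (integralClosure L K)) ↔
        PIResidue (algebraMap M (integralClosure M K)) ∧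
          (ResidueField.map (algebraMap L M)).IsPurelyInseparable) := by
    intro hloc
    have : IsLocalHom (algebraMap M (integralClosure M K)) := isLocalHom_of_integral _ _
    let c := (algebraMap M (integralClosure M K)).comp (algebraMap L M)
    have hL : PIResidue (algebraMap L (integralClosure L K)) ↔ PIResidue c := by
      refine ⟨fun h => h.map e fun a => ⟨a, ?_⟩, fun h => h.map e.symm fun a => ⟨a, ?_⟩⟩
      · exact Subtype.ext (IsScalarTower.algebraMap_apply L M K a).symm
      · exact Subtype.ext (IsScalarTower.algebraMap_apply L M K a)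
    have : IsLocalHom c := RingHom.isLocalHom_comp _ _
    rw [hL, piResidue_iff c, piResidue_iff (algebraMap M (integralClosure M K)),
      ResidueField.map_comp (algebraMap L M) (algebraMap M (integralClosure M K))]
    refine ⟨fun h => ?_, fun h => h.2.comp h.1⟩
    exact (Groth.Agent.RadPtLib.pi_of_comp h).symm
  constructor
  · rintro ⟨h1, h2⟩
    have hloc := RingEquiv.isLocalRing e
    obtain ⟨h3, h4⟩ := (main hloc).1 h2
    exact ⟨⟨hloc, h3⟩, h4⟩
  · rintro ⟨⟨hloc, h3⟩, h4⟩
    exact ⟨RingEquiv.isLocalRing e.symm, (main hloc).2 ⟨h3, h4⟩⟩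

section Minimal

variable {R L : Type u} [CommRing R] [CommRing L] [Algebra R L] [IsLocalRing L]

/-- A local ring whose reduction is a domain has a single minimal prime below the centre. -/
theorem minimalPrimes_eq_of_isDomain_red (p : Ideal R) [p.IsPrime] [IsLocalization.AtPrime L p]
    (h : IsDomain (CAlg2.red L)) {P P' : Ideal R} (hP : P ∈ minimalPrimes R)
    (hP' : P' ∈ minimalPrimes R) (hle : P ≤ p) (hle' : P' ≤ p) : P = P' := by
  have hn : (nilradical L).IsPrime := (Ideal.Quotient.isDomain_iff_prime _).1 h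
  suffices ∀ Q ∈ minimalPrimes R, Q ≤ p → Q = (nilradical L).comap (algebraMap R L) from
    (this P hP hle).trans (this P' hP' hle').symm
  intro Q hQ hQp
  have := hQ.1.1
  have hd : Disjoint (p.primeCompl : Set R) Q :=
    Set.disjoint_left.2 fun x hx hxQ => hx (hQp hxQ)
  have : (Q.map (algebraMap R L)).IsPrime :=
    IsLocalization.isPrime_of_isPrime_disjoint p.primeCompl L Q ‹_› hd
  have hle2 : (nilradical L).comap (algebraMap R L) ≤ Q := by
    rw [← IsLocalization.comap_map_of_isPrime_disjoint p.primeCompl L ‹_› hd]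
    exact Ideal.comap_mono (nilradical_le_prime _)
  exact le_antisymm (hQ.2 ⟨hn.comap _, bot_le⟩ hle2) hle2

/-- If only one minimal prime lies below the centre, a map to a field killing exactly that prime
has kernel the nilradical. -/
theorem ker_eq_nilradical {K : Type u} [Field K] [Algebra R K] [Algebra L K] [IsScalarTower R L K]
    (p : Ideal R) [p.IsPrime] [IsLocalization.AtPrime L p] (P : Ideal R)
    (hK : RingHom.ker (algebraMap R K) = P) (huniq : ∀ P' ∈ minimalPrimes R, P' ≤ p → P' = P) :
    RingHom.ker (algebraMap L K) = nilradical L := by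
  refine le_antisymm (fun l hl => ?_) fun l hl => ((mem_nilradical.1 hl).map _).eq_zero
  obtain ⟨⟨r, c⟩, rfl⟩ := IsLocalization.mk'_surjective p.primeCompl l
  rw [nilradical_eq_sInf]
  refine Submodule.mem_sInf.2 fun (q : Ideal L) hq => ?_
  have hq : q.IsPrime := hq
  have hr : r ∈ P := by
    rw [← hK, RingHom.mem_ker, IsScalarTower.algebraMap_apply R L K,
      ← IsLocalization.mk'_spec L r c, map_mul]
    rw [RingHom.mem_ker] at hl
    rw [hl, zero_mul]
  have hqp : q.comap (algebraMap R L) ≤ p := by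
    rw [← IsLocalization.AtPrime.under_maximalIdeal L p]
    exact Ideal.comap_mono (le_maximalIdeal hq.ne_top)
  obtain ⟨P', hP', hP'le⟩ := Ideal.exists_minimalPrimes_le
    (I := (⊥ : Ideal R)) (J := q.comap (algebraMap R L)) bot_le
  rw [← huniq P' hP' (hP'le.trans hqp)] at hr
  show IsLocalization.mk' L r c ∈ q
  rw [IsLocalization.mk'_eq_mul_mk'_one]
  exact q.mul_mem_right _ (hP'le hr)

end Minimal

section Main

variable {R S : Type u} [CommRing R] [CommRing S] [Algebra R S]

/-- The hypothesis "birational" on minimal primes. -/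
structure IsBirMin (R S : Type u) [CommRing R] [CommRing S] [Algebra R S] : Prop where
  mapsTo : ∀ Q ∈ minimalPrimes S, Q.comap (algebraMap R S) ∈ minimalPrimes R
  exists_over : ∀ P ∈ minimalPrimes R, ∃ Q : Ideal S, Q.IsPrime ∧ Q.comap (algebraMap R S) = P
  unique_over : ∀ P ∈ minimalPrimes R, ∀ Q Q' : Ideal S, Q.IsPrime → Q'.IsPrime →
    Q.comap (algebraMap R S) = P → Q'.comap (algebraMap R S) = P → Q = Q'
  residue : ∀ Q ∈ minimalPrimes S, ∀ s : S, ∃ r d : R,
    algebraMap R S d ∉ Q ∧ algebraMap R S d * s - algebraMap R S r ∈ Q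

theorem IsBirMin.over_mem_minimalPrimes (h : IsBirMin R S) {P : Ideal R} (hP : P ∈ minimalPrimes R)
    {Q : Ideal S} (hQ : Q.IsPrime) (hQP : Q.comap (algebraMap R S) = P) : Q ∈ minimalPrimes S := by
  obtain ⟨Q', hQ', hle⟩ := Ideal.exists_minimalPrimes_le (I := (⊥ : Ideal S)) (J := Q) bot_le
  have h1 : Q'.comap (algebraMap R S) = P := by
    refine le_antisymm (hQP ▸ Ideal.comap_mono hle) ?_
    exact hP.2 (h.mapsTo Q' hQ').1 (hQP ▸ Ideal.comap_mono hle)
  rwa [← h.unique_over P hP Q' Q hQ'.1.1 hQ h1 hQP]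

variable [Algebra.IsIntegral R S] {L M : Type u} [CommRing L] [IsLocalRing L] [Algebra R L]
  [CommRing M] [IsLocalRing M] [Algebra S M] [Algebra R M] [IsScalarTower R S M]
  [Algebra L M] [IsScalarTower R L M] [IsLocalHom (algebraMap L M)]

/-- The main equivalence at the level of rings. -/
theorem isGeomUnibranch_iff_birMin (hbir : IsBirMin R S) (p : Ideal R) [p.IsPrime] (q : Ideal S)
    [q.IsPrime] [IsLocalization.AtPrime L p] [IsLocalization.AtPrime M q]
    (hqp : q.comap (algebraMap R S) = p) :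
    CAlg2.IsGeomUnibranch L ↔
      (∀ q' : Ideal S, q'.IsPrime → q'.comap (algebraMap R S) = p → q' = q) ∧
        CAlg2.IsGeomUnibranch M ∧
          (ResidueField.map (algebraMap L M)).IsPurelyInseparable := by
  obtain ⟨Q₀, hQ₀, hQ₀q⟩ := Ideal.exists_minimalPrimes_le (I := (⊥ : Ideal S)) (J := q) bot_le
  have := hQ₀.1.1
  let P₀ := Q₀.comap (algebraMap R S)
  have hP₀ : P₀ ∈ minimalPrimes R := hbir.mapsTo Q₀ hQ₀
  have hP₀p : P₀ ≤ p := hqp ▸ Ideal.comap_mono hQ₀q
  let K := FractionRing (S ⧸ Q₀)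
  let ψ : S →+* K := algebraMap S K
  have hψ : RingHom.ker ψ = Q₀ := by
    show RingHom.ker (algebraMap S K) = Q₀
    rw [IsScalarTower.algebraMap_eq S (S ⧸ Q₀) K,
      RingHom.ker_comp_of_injective _ (IsFractionRing.injective _ K)]
    exact Ideal.mk_ker
  have hψ0 : ∀ s, ψ s = 0 ↔ s ∈ Q₀ := fun s => by rw [← RingHom.mem_ker, hψ]
  have : IsScalarTower R S K := inferInstance
  have hψR : ∀ r, ψ (algebraMap R S r) = algebraMap R K r := fun r =>
    (IsScalarTower.algebraMap_apply R S K r).symm
  have huL : ∀ c : p.primeCompl, IsUnit (algebraMap R K c) := fun c =>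
    isUnit_iff_ne_zero.2 fun h => c.2 ((SetLike.ext_iff.1 hqp _).1 (hQ₀q ((hψ0 _).1 (by rw [hψR]; exact h))))
  have huM : ∀ t : q.primeCompl, IsUnit (algebraMap S K t) := fun t =>
    isUnit_iff_ne_zero.2 fun h => t.2 (hQ₀q ((hψ0 _).1 h))
  let : Algebra L K := (IsLocalization.lift huL : L →+* K).toAlgebra
  let : Algebra M K := (IsLocalization.lift huM : M →+* K).toAlgebra
  have : IsScalarTower R L K :=
    .of_algebraMap_eq fun r => (IsLocalization.lift_eq huL r).symm
  have : IsScalarTower S M K :=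
    .of_algebraMap_eq fun s => (IsLocalization.lift_eq huM s).symm
  have : IsScalarTower L M K := by
    refine .of_algebraMap_eq' (IsLocalization.ringHom_ext p.primeCompl (RingHom.ext fun r => ?_))
    simp only [RingHom.comp_apply]
    rw [← IsScalarTower.algebraMap_apply R L M, ← IsScalarTower.algebraMap_apply R L K,
      IsScalarTower.algebraMap_apply R S M, ← IsScalarTower.algebraMap_apply S M K]
    rfl
  have hfrac : ∀ x : K, ∃ a b : L,
      algebraMap L K b ≠ 0 ∧ x * algebraMap L K b = algebraMap L K a := by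
    intro x
    obtain ⟨a, b, hb, rfl⟩ := IsFractionRing.div_surjective (S ⧸ Q₀) x
    obtain ⟨s, rfl⟩ := Ideal.Quotient.mk_surjective a
    obtain ⟨t, rfl⟩ := Ideal.Quotient.mk_surjective b
    have ht : ψ t ≠ 0 := fun h => nonZeroDivisors.ne_zero hb
      (Ideal.Quotient.eq_zero_iff_mem.2 ((hψ0 _).1 h))
    obtain ⟨r₁, d₁, hd₁, h₁⟩ := hbir.residue Q₀ hQ₀ s
    obtain ⟨r₂, d₂, hd₂, h₂⟩ := hbir.residue Q₀ hQ₀ t
    have e₁ : algebraMap R K d₁ * ψ s = algebraMap R K r₁ :=
      sub_eq_zero.1 (by have := (hψ0 _).2 h₁; rwa [map_sub, map_mul] at this)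
    have e₂ : algebraMap R K d₂ * ψ t = algebraMap R K r₂ :=
      sub_eq_zero.1 (by have := (hψ0 _).2 h₂; rwa [map_sub, map_mul] at this)
    have n₁ : algebraMap R K d₁ ≠ 0 := fun h => hd₁ ((hψ0 _).1 h)
    have n₂ : algebraMap R K d₂ ≠ 0 := fun h => hd₂ ((hψ0 _).1 h)
    refine ⟨algebraMap R L (r₁ * d₂), algebraMap R L (r₂ * d₁), ?_⟩
    simp only [← IsScalarTower.algebraMap_apply R L K, map_mul, ← e₁, ← e₂]
    refine ⟨by simp [n₁, n₂, ht], ?_⟩
    rw [show algebraMap (S ⧸ Q₀) K (Ideal.Quotient.mk Q₀ s) = ψ s from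
        (IsScalarTower.algebraMap_apply S (S ⧸ Q₀) K s).symm,
      show algebraMap (S ⧸ Q₀) K (Ideal.Quotient.mk Q₀ t) = ψ t from
        (IsScalarTower.algebraMap_apply S (S ⧸ Q₀) K t).symm]
    rw [div_mul_eq_mul_div, div_eq_iff ht]
    ring
  let N := integralClosure L K
  have hmemN : ∀ s : S, IsIntegral L (ψ s) := fun s =>
    ((Algebra.IsIntegral.isIntegral (R := R) s).map (IsScalarTower.toAlgHom R S K)).tower_top
  let ψN : S →+* N := ψ.codRestrict _ hmemN
  have hψN : ∀ 𝔐 : Ideal N, 𝔐.IsMaximal →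
      (𝔐.comap ψN).comap (algebraMap R S) = p := by
    intro 𝔐 h𝔐
    have h1 : 𝔐.comap (algebraMap L N) = maximalIdeal L :=
      eq_maximalIdeal (Ideal.isMaximal_comap_of_isIntegral_of_isMaximal (R := L) 𝔐)
    rw [← IsLocalization.AtPrime.under_maximalIdeal L p, ← h1, Ideal.under_def, Ideal.comap_comap,
      Ideal.comap_comap]
    congr 1
    ext r
    exact IsScalarTower.algebraMap_apply R L K r
  -- if `L` is geometrically unibranch, the fibre is a single point
  have huniq : CAlg2.IsGeomUnibranch L →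
      ∀ q' : Ideal S, q'.IsPrime → q'.comap (algebraMap R S) = p → q' = q := by
    intro hL
    have hP : ∀ P' ∈ minimalPrimes R, P' ≤ p → P' = P₀ := fun P' hP' hle =>
      minimalPrimes_eq_of_isDomain_red p hL.1.1 hP' hP₀ hle hP₀p
    have hloc : IsLocalRing N := ((isGeomUnibranch_iff_of_field L K
      (ker_eq_nilradical p P₀ (by ext r; exact hψ0 _) hP) hfrac).1 hL).1
    suffices ∀ q' : Ideal S, q'.IsPrime → q'.comap (algebraMap R S) = p →
        q' = (maximalIdeal N).comap ψN from
      fun q' h1 h2 => (this q' h1 h2).trans (this q ‹_› hqp).symm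
    intro q' hq' hq'p
    obtain ⟨Q', hQ', hQ'q⟩ := Ideal.exists_minimalPrimes_le (I := (⊥ : Ideal S)) (J := q') bot_le
    have hQ'eq : Q' = Q₀ := by
      have h1 := hP _ (hbir.mapsTo Q' hQ') (hq'p ▸ Ideal.comap_mono hQ'q)
      exact hbir.unique_over P₀ hP₀ Q' Q₀ hQ'.1.1 ‹_› h1 rfl
    let T := integralClosure R K
    let ψT : S →+* T := ψ.codRestrict _ fun s =>
      (Algebra.IsIntegral.isIntegral (R := R) s).map (IsScalarTower.toAlgHom R S K)
    let : Algebra S T := ψT.toAlgebra
    have : IsScalarTower R S T := .of_algebraMap_eq fun r => rfl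
    have : Algebra.IsIntegral S T := Algebra.IsIntegral.tower_top R
    obtain ⟨𝔗, -, h𝔗, h𝔗q⟩ := Ideal.exists_ideal_over_prime_of_isIntegral q' (⊥ : Ideal T) (by
      intro s hs
      have : ψ s = 0 := congrArg Subtype.val (Ideal.mem_bot.1 hs)
      exact hQ'q (hQ'eq ▸ (hψ0 s).1 this))
    have hle : q' ≤ (maximalIdeal N).comap ψN := by
      intro u hu
      by_contra hu'
      rw [Ideal.mem_comap, mem_maximalIdeal, mem_nonunits_iff, not_not] at hu'
      obtain ⟨v, hv⟩ := hu'.exists_right_inv
      obtain ⟨⟨c, hc⟩, hcv⟩ :=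
        IsIntegral.exists_multiple_integral_of_isLocalization p.primeCompl (v : K) v.2
      let w : T := ⟨_, hcv⟩
      have hw : ψT u * w = algebraMap R T c := by
        apply Subtype.ext
        have := congrArg Subtype.val hv
        show ψ u * (c • (v : K)) = algebraMap R K c
        rw [mul_smul_comm]
        change ψ u * (v : K) = 1 at this
        rw [this, Algebra.smul_def, mul_one]
      have : algebraMap R S c ∈ q' := by
        rw [← h𝔗q, Ideal.mem_comap]
        show ψT (algebraMap R S c) ∈ 𝔗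
        rw [← h𝔗q, Ideal.mem_comap] at hu
        have := 𝔗.mul_mem_right w hu
        rw [show algebraMap S T u = ψT u from rfl, hw] at this
        exact this
      exact hc (hq'p ▸ this)
    refine le_antisymm hle fun s hs => ?_
    by_contra hs'
    have hlt : q' < (maximalIdeal N).comap ψN :=
      lt_of_le_of_ne hle fun h => hs' (h ▸ hs)
    have := hq'
    have h2 : q'.comap (algebraMap R S) < ((maximalIdeal N).comap ψN).comap (algebraMap R S) :=
      Ideal.IsIntegral.comap_lt_comap hlt
    rw [hq'p, hψN _ inferInstance] at h2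
    exact lt_irrefl _ h2
  -- both sides make `K` the fraction field of both reductions
  have step : (∀ q' : Ideal S, q'.IsPrime → q'.comap (algebraMap R S) = p → q' = q) →
      (∀ Q' ∈ minimalPrimes S, Q' ≤ q → Q' = Q₀) →
      (CAlg2.IsGeomUnibranch L ↔ CAlg2.IsGeomUnibranch M ∧
          (ResidueField.map (algebraMap L M)).IsPurelyInseparable) := by
    intro hq hQ
    have hP : ∀ P' ∈ minimalPrimes R, P' ≤ p → P' = P₀ := by
      intro P' hP' hle
      obtain ⟨Q', hQ', hQ'P⟩ := hbir.exists_over P' hP'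
      obtain ⟨q', hge, hq', hq'p⟩ :=
        Ideal.exists_ideal_over_prime_of_isIntegral p Q' (hQ'P ▸ hle)
      rw [hq q' hq' hq'p] at hge
      rw [← hQ'P, hQ Q' (hbir.over_mem_minimalPrimes hP' hQ' hQ'P) hge]
    refine isGeomUnibranch_iff_of_integral L M K
      (ker_eq_nilradical p P₀ (by ext r; exact hψ0 _) hP)
      (ker_eq_nilradical q Q₀ hψ hQ) hfrac fun m => ?_
    obtain ⟨⟨s, t⟩, rfl⟩ := IsLocalization.mk'_surjective q.primeCompl m
    have ht : IsUnit (ψN t) := by
      by_contra h
      obtain ⟨𝔐, h𝔐, ht𝔐⟩ := exists_max_ideal_of_mem_nonunits h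
      have := h𝔐
      have := hq (𝔐.comap ψN) inferInstance (hψN 𝔐 h𝔐)
      exact t.2 (this ▸ ht𝔐)
    obtain ⟨v, hv⟩ := ht.exists_right_inv
    have hv' : ψ t * (v : K) = 1 := congrArg Subtype.val hv
    have h1 : algebraMap M K (IsLocalization.mk' M s t) * ψ t = ψ s := by
      rw [show ψ t = algebraMap M K (algebraMap S M t) from
        IsScalarTower.algebraMap_apply S M K t, ← map_mul, IsLocalization.mk'_spec,
        ← IsScalarTower.algebraMap_apply]
    have h2 : algebraMap M K (IsLocalization.mk' M s t) = ψ s * v := by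
      rw [← h1, mul_assoc, hv', mul_one]
    rw [h2]
    exact (hmemN s).mul v.2
  constructor
  · intro hL
    refine ⟨huniq hL, (step (huniq hL) fun Q' hQ' hle => ?_).1 hL⟩
    exact hbir.unique_over P₀ hP₀ Q' Q₀ hQ'.1.1 ‹_›
      (minimalPrimes_eq_of_isDomain_red p hL.1.1 (hbir.mapsTo Q' hQ') hP₀
        (hqp ▸ Ideal.comap_mono hle) hP₀p) rfl
  · rintro ⟨hq, hM, hpi⟩
    exact (step hq fun Q' hQ' hle =>
      minimalPrimes_eq_of_isDomain_red q hM.1.1 hQ' hQ₀ hle hQ₀q).2 ⟨hM, hpi⟩

end Main

end Groth.Agent.UnibrBir
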