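import Groth.Agent.UnibrBir.Algebra
import Mathlib.AlgebraicGeometry.Morphisms.Integral
import Mathlib.AlgebraicGeometry.ResidueField
import Mathlib.Topology.Sober

/-!
# Geometrically unibranch points along integral birational morphisms
-/

set_option autoImplicit false

universe u

open CategoryTheory AlgebraicGeometry

namespace Groth.Agent.UnibrBir

lemma mem_genericPoints_iff_forall {α : Type*} [TopologicalSpace α] [QuasiSober α] [T0Space α]
    {x : α} : x ∈ genericPoints α ↔ ∀ z, z ⤳ x → z = x := by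
  constructor
  · intro hx z hz
    have h1 : closure {x} ⊆ closure {z} := specializes_iff_closure_subset.1 hz
    have h2 : closure {z} ⊆ closure {x} :=
      (show closure {x} ∈ irreducibleComponents α from hx).2 isIrreducible_singleton.closure h1
    exact (hz.antisymm (specializes_iff_closure_subset.2 h2)).eq
  · intro h
    refine ⟨isIrreducible_singleton.closure, fun Z hZ hsub => ?_⟩
    have hgen := hZ.isGenericPoint_genericPoint_closure
    have hxz : hZ.genericPoint ⤳ x :=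
      hgen.specializes (subset_closure (hsub (subset_closure rfl)))
    intro z hz
    rw [← h _ hxz, hgen.def]
    exact subset_closure hz

section Affine

variable {X : Scheme.{u}} {U : X.Opens} (hU : IsAffineOpen U)

theorem primeIdealOf_le_iff (a b : U) :
    hU.primeIdealOf a ≤ hU.primeIdealOf b ↔ (a : X) ⤳ (b : X) := by
  rw [PrimeSpectrum.le_iff_specializes]
  refine (hU.fromSpec.isOpenEmbedding.isInducing.specializes_iff (x := hU.primeIdealOf a)
    (y := hU.primeIdealOf b)).symm.trans ?_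
  rw [hU.fromSpec_primeIdealOf, hU.fromSpec_primeIdealOf]

theorem primeIdealOf_surjective (P : PrimeSpectrum Γ(X, U)) : ∃ a : U, hU.primeIdealOf a = P := by
  have h : hU.fromSpec P ∈ (U : Set X) := by
    rw [← hU.range_fromSpec]
    exact ⟨P, rfl⟩
  exact ⟨⟨_, h⟩, hU.fromSpec.isOpenEmbedding.injective (hU.fromSpec_primeIdealOf _)⟩

theorem primeIdealOf_mem_minimalPrimes_iff (a : U) :
    (hU.primeIdealOf a).asIdeal ∈ minimalPrimes Γ(X, U) ↔ (a : X) ∈ genericPoints X := by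
  rw [mem_genericPoints_iff_forall]
  constructor
  · intro h z hz
    have hzU : z ∈ U := hz.mem_open U.isOpen a.2
    have h1 := (primeIdealOf_le_iff hU ⟨z, hzU⟩ a).2 hz
    have h2 : hU.primeIdealOf a ≤ hU.primeIdealOf ⟨z, hzU⟩ :=
      h.2 ⟨(hU.primeIdealOf ⟨z, hzU⟩).isPrime, bot_le⟩ h1
    exact (hz.antisymm ((primeIdealOf_le_iff hU a ⟨z, hzU⟩).1 h2)).eq
  · intro h
    refine ⟨⟨(hU.primeIdealOf a).isPrime, bot_le⟩, fun J hJ hle => ?_⟩
    obtain ⟨b, hb⟩ := primeIdealOf_surjective hU ⟨J, hJ.1⟩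
    have hsp : (b : X) ⤳ (a : X) := by
      rw [← primeIdealOf_le_iff hU, hb]
      exact hle
    rw [show a = b from Subtype.ext (h _ hsp).symm, hb]

end Affine

section Morphism

variable {X Y : Scheme.{u}} (f : X ⟶ Y) {U : Y.Opens} (hU : IsAffineOpen U)
  (hV : IsAffineOpen (f ⁻¹ᵁ U))

theorem comap_primeIdealOf_app (x : X) (hx : f x ∈ U) :
    (hV.primeIdealOf ⟨x, hx⟩).asIdeal.comap (f.app U).hom = (hU.primeIdealOf ⟨f x, hx⟩).asIdeal := by
  have h := IsAffineOpen.comap_primeIdealOf_appLE (f := f) U hU (f ⁻¹ᵁ U) hV le_rfl hx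
  rw [← Scheme.Hom.app_eq_appLE] at h
  exact congrArg PrimeSpectrum.asIdeal h

theorem primeIdealOf_eq_of_comap (Q : Ideal Γ(X, f ⁻¹ᵁ U)) (hQ : Q.IsPrime) :
    ∃ (x : X) (hx : f x ∈ U), (hV.primeIdealOf ⟨x, hx⟩).asIdeal = Q := by
  obtain ⟨a, ha⟩ := primeIdealOf_surjective hV ⟨Q, hQ⟩
  exact ⟨a.1, a.2, congrArg PrimeSpectrum.asIdeal ha⟩

include hU hV in
theorem isBirMin (hf : RadPt.IsBirational f) :
    letI := (f.app U).hom.toAlgebra
    IsBirMin Γ(Y, U) Γ(X, f ⁻¹ᵁ U) := by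
  letI := (f.app U).hom.toAlgebra
  refine ⟨fun Q hQ => ?_, fun P hP => ?_, fun P hP Q Q' hQ hQ' e e' => ?_, fun Q hQ s => ?_⟩
  · obtain ⟨x, hx, rfl⟩ := primeIdealOf_eq_of_comap f hV Q hQ.1.1
    show Ideal.comap (f.app U).hom _ ∈ _
    rw [comap_primeIdealOf_app f hU hV x hx]
    exact (primeIdealOf_mem_minimalPrimes_iff hU _).2
      (hf.1.mapsTo ((primeIdealOf_mem_minimalPrimes_iff hV _).1 hQ))
  · obtain ⟨⟨y, hy⟩, hyP⟩ := primeIdealOf_surjective hU ⟨P, hP.1.1⟩
    have hyg : y ∈ genericPoints Y := (primeIdealOf_mem_minimalPrimes_iff hU ⟨y, hy⟩).1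
      (by rw [hyP]; exact hP)
    obtain ⟨x, -, rfl⟩ := hf.1.surjOn hyg
    refine ⟨(hV.primeIdealOf ⟨x, hy⟩).asIdeal, (hV.primeIdealOf ⟨x, hy⟩).isPrime, ?_⟩
    show Ideal.comap (f.app U).hom _ = _
    rw [comap_primeIdealOf_app f hU hV x hy, hyP]
  · obtain ⟨x, hx, rfl⟩ := primeIdealOf_eq_of_comap f hV Q hQ
    obtain ⟨x', hx', rfl⟩ := primeIdealOf_eq_of_comap f hV Q' hQ'
    change Ideal.comap (f.app U).hom _ = _ at e e'
    rw [comap_primeIdealOf_app f hU hV x hx] at e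
    rw [comap_primeIdealOf_app f hU hV x' hx'] at e'
    have hg : f x ∈ genericPoints Y :=
      (primeIdealOf_mem_minimalPrimes_iff hU ⟨f x, hx⟩).1 (by rw [e]; exact hP)
    have he : f x' = f x := by
      have := congrArg hU.fromSpec
        (PrimeSpectrum.ext (e'.trans e.symm) : hU.primeIdealOf ⟨f x', hx'⟩ = hU.primeIdealOf ⟨f x, hx⟩)
      rwa [hU.fromSpec_primeIdealOf, hU.fromSpec_primeIdealOf] at this
    obtain rfl := (hf.2 _ hg).1 x x' rfl he
    rfl
  · obtain ⟨x, hx, rfl⟩ := primeIdealOf_eq_of_comap f hV Q hQ.1.1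
    have hg : f x ∈ genericPoints Y :=
      hf.1.mapsTo ((primeIdealOf_mem_minimalPrimes_iff hV _).1 hQ)
    have hb := (hf.2 _ hg).2 x rfl
    let := Y.presheaf.algebra_section_stalk ⟨f x, hx⟩
    let := X.presheaf.algebra_section_stalk (⟨x, hx⟩ : ↥(f ⁻¹ᵁ U))
    have hlocY : IsLocalization.AtPrime (Y.presheaf.stalk (f x)) (hU.primeIdealOf ⟨f x, hx⟩).asIdeal :=
      hU.isLocalization_stalk ⟨f x, hx⟩
    have hlocX : IsLocalization.AtPrime (X.presheaf.stalk x) (hV.primeIdealOf ⟨x, hx⟩).asIdeal :=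
      hV.isLocalization_stalk ⟨x, hx⟩
    obtain ⟨a, ha⟩ := hb.2 (X.residue x (algebraMap _ _ s))
    obtain ⟨a, rfl⟩ := Y.residue_surjective (f x) a
    obtain ⟨⟨r, d⟩, hrd⟩ := IsLocalization.surj (hU.primeIdealOf ⟨f x, hx⟩).asIdeal.primeCompl a
    refine ⟨r, d, fun h => d.2 ?_, ?_⟩
    · exact (SetLike.ext_iff.1 (comap_primeIdealOf_app f hU hV x hx) _).1 h
    · have hgerm : ∀ t, f.stalkMap x (algebraMap Γ(Y, U) (Y.presheaf.stalk (f x)) t) =
          algebraMap Γ(X, f ⁻¹ᵁ U) (X.presheaf.stalk x) (f.app U t) := fun t =>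
        Scheme.Hom.germ_stalkMap_apply f U x hx t
      have h1 : X.residue x (f.stalkMap x a) = X.residue x (algebraMap _ _ s) := by
        rw [← ha]
        exact (congr($(Scheme.residue_residueFieldMap f x) a)).symm
      rw [← IsLocalization.AtPrime.under_maximalIdeal (X.presheaf.stalk x)
        (hV.primeIdealOf ⟨x, hx⟩).asIdeal, Ideal.mem_comap]
      refine (IsLocalRing.residue_eq_zero_iff _).1 ?_
      rw [map_sub, map_mul]
      show X.residue x (_ * _ - _) = 0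
      rw [RingHom.algebraMap_toAlgebra]
      erw [← hgerm d.1, ← hgerm r]
      rw [← hrd, map_mul (f.stalkMap x).hom]
      refine ((map_sub (X.residue x).hom _ _).trans ?_)
      refine sub_eq_zero.2 ?_
      refine (map_mul (X.residue x).hom _ _).trans ?_
      refine Eq.trans ?_ (map_mul (X.residue x).hom _ _).symm
      refine (mul_comm _ _).trans ?_
      exact congrArg (· * _) h1.symm

include hU hV in
/-- The criterion at a point of the source. -/
theorem isGeomUnibranch_iff_aux [IsIntegralHom f] (hf : RadPt.IsBirational f) (x : X)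
    (hx : f x ∈ U) :
    CAlg2.IsGeomUnibranch (Y.presheaf.stalk (f x)) ↔
      (∀ x', f x' = f x → x' = x) ∧ CAlg2.IsGeomUnibranch (X.presheaf.stalk x) ∧
        (f.residueFieldMap x).hom.IsPurelyInseparable := by
  letI := (f.app U).hom.toAlgebra
  have : Algebra.IsIntegral Γ(Y, U) Γ(X, f ⁻¹ᵁ U) := ⟨f.isIntegral_app U hU⟩
  let := Y.presheaf.algebra_section_stalk ⟨f x, hx⟩
  let := X.presheaf.algebra_section_stalk (⟨x, hx⟩ : ↥(f ⁻¹ᵁ U))
  have hlocY : IsLocalization.AtPrime (Y.presheaf.stalk (f x)) (hU.primeIdealOf ⟨f x, hx⟩).asIdeal :=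
    hU.isLocalization_stalk ⟨f x, hx⟩
  have hlocX : IsLocalization.AtPrime (X.presheaf.stalk x) (hV.primeIdealOf ⟨x, hx⟩).asIdeal :=
    hV.isLocalization_stalk ⟨x, hx⟩
  let : Algebra Γ(Y, U) (X.presheaf.stalk x) :=
    ((algebraMap Γ(X, f ⁻¹ᵁ U) (X.presheaf.stalk x)).comp (f.app U).hom).toAlgebra
  have : IsScalarTower Γ(Y, U) Γ(X, f ⁻¹ᵁ U) (X.presheaf.stalk x) := .of_algebraMap_eq fun r => rfl
  let : Algebra (Y.presheaf.stalk (f x)) (X.presheaf.stalk x) := (f.stalkMap x).hom.toAlgebra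
  have : IsScalarTower Γ(Y, U) (Y.presheaf.stalk (f x)) (X.presheaf.stalk x) :=
    .of_algebraMap_eq fun r => (Scheme.Hom.germ_stalkMap_apply f U x hx r).symm
  have : IsLocalHom (algebraMap (Y.presheaf.stalk (f x)) (X.presheaf.stalk x)) :=
    inferInstanceAs (IsLocalHom (f.stalkMap x).hom)
  rw [isGeomUnibranch_iff_birMin (L := Y.presheaf.stalk (f x)) (M := X.presheaf.stalk x)
    (isBirMin f hU hV hf) (hU.primeIdealOf ⟨f x, hx⟩).asIdeal
    (hV.primeIdealOf ⟨x, hx⟩).asIdeal (comap_primeIdealOf_app f hU hV x hx)]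
  refine and_congr ⟨fun h x' hx' => ?_, fun h Q hQ e => ?_⟩ Iff.rfl
  · have hxU : f x' ∈ U := hx' ▸ hx
    have e := h _ (hV.primeIdealOf ⟨x', hxU⟩).isPrime (by
      show Ideal.comap (f.app U).hom _ = _
      rw [comap_primeIdealOf_app f hU hV x' hxU]
      congr 2
      exact Subtype.ext hx')
    have := congrArg hV.fromSpec
      (PrimeSpectrum.ext e : hV.primeIdealOf ⟨x', hxU⟩ = hV.primeIdealOf ⟨x, hx⟩)
    rwa [hV.fromSpec_primeIdealOf, hV.fromSpec_primeIdealOf] at this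
  · obtain ⟨x', hx', rfl⟩ := primeIdealOf_eq_of_comap f hV Q hQ
    change Ideal.comap (f.app U).hom _ = _ at e
    rw [comap_primeIdealOf_app f hU hV x' hx'] at e
    have := congrArg hU.fromSpec
      (PrimeSpectrum.ext e : hU.primeIdealOf ⟨f x', hx'⟩ = hU.primeIdealOf ⟨f x, hx⟩)
    rw [hU.fromSpec_primeIdealOf, hU.fromSpec_primeIdealOf] at this
    obtain rfl := h x' this
    rfl

end Morphism

/-- An integral birational morphism is surjective. -/
theorem exists_preimage {X Y : Scheme.{u}} (f : X ⟶ Y) [IsIntegralHom f]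
    (hf : RadPt.IsBirational f) (y : Y) : ∃ x, f x = y := by
  obtain ⟨_, ⟨U, hU, rfl⟩, hy, -⟩ := Y.isBasis_affineOpens.exists_subset_of_mem_open
    (Set.mem_univ y) isOpen_univ
  have hV := hU.preimage f
  letI := (f.app U).hom.toAlgebra
  have : Algebra.IsIntegral Γ(Y, U) Γ(X, f ⁻¹ᵁ U) := ⟨f.isIntegral_app U hU⟩
  let p := (hU.primeIdealOf ⟨y, hy⟩).asIdeal
  obtain ⟨P, hP, hPp⟩ := Ideal.exists_minimalPrimes_le (I := (⊥ : Ideal Γ(Y, U))) (J := p) bot_le
  obtain ⟨Q, hQ, hQP⟩ := (isBirMin f hU hV hf).exists_over P hP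
  obtain ⟨q, -, hq, hqp⟩ := Ideal.exists_ideal_over_prime_of_isIntegral p Q (hQP ▸ hPp)
  obtain ⟨x, hx, rfl⟩ := primeIdealOf_eq_of_comap f hV q hq
  change Ideal.comap (f.app U).hom _ = _ at hqp
  rw [comap_primeIdealOf_app f hU hV x hx] at hqp
  have := congrArg hU.fromSpec
    (PrimeSpectrum.ext hqp : hU.primeIdealOf ⟨f x, hx⟩ = hU.primeIdealOf ⟨y, hy⟩)
  rw [hU.fromSpec_primeIdealOf, hU.fromSpec_primeIdealOf] at this
  exact ⟨x, this⟩

/-- The criterion at a point of the target. -/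
theorem isGeomUnibranch_iff_isRadicialAt {X Y : Scheme.{u}} (f : X ⟶ Y) [IsIntegralHom f]
    (hf : RadPt.IsBirational f) (y : Y) :
    CAlg2.IsGeomUnibranch (Y.presheaf.stalk y) ↔
      (RadPt.IsRadicialAt f y ∧ ∀ x : X, f x = y → CAlg2.IsGeomUnibranch (X.presheaf.stalk x)) := by
  obtain ⟨_, ⟨U, hU, rfl⟩, hy, -⟩ := Y.isBasis_affineOpens.exists_subset_of_mem_open
    (Set.mem_univ y) isOpen_univ
  have hV := hU.preimage f
  constructor
  · intro hG
    have key : ∀ x, f x = y → (∀ x', f x' = f x → x' = x) ∧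
        CAlg2.IsGeomUnibranch (X.presheaf.stalk x) ∧
          (f.residueFieldMap x).hom.IsPurelyInseparable := by
      rintro x rfl
      exact (isGeomUnibranch_iff_aux f hU hV hf x hy).1 hG
    exact ⟨⟨fun x x' hx hx' => ((key x hx).1 x' (hx'.trans hx.symm)).symm,
      fun x hx => (key x hx).2.2⟩, fun x hx => (key x hx).2.1⟩
  · rintro ⟨⟨h1, h2⟩, h3⟩
    obtain ⟨x, rfl⟩ := exists_preimage f hf y
    exact (isGeomUnibranch_iff_aux f hU hV hf x hy).2
      ⟨fun x' hx' => h1 x' x hx' rfl, h3 x rfl, h2 x rfl⟩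

end Groth.Agent.UnibrBir
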